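import Mathlib

/-!
# Scheme-theoretic images: dominance and factorization through closed immersions
-/

set_option autoImplicit false
universe u

open AlgebraicGeometry CategoryTheory Limits TopologicalSpace Opposite

namespace Groth.Agent.Lib.Helper24.AntiAff

variable {X Y : Scheme.{u}}

/-- The canonical morphism to the scheme-theoretic image of a quasi-compact morphism is
scheme-theoretically dominant. -/
instance isSchemeTheoreticallyDominant_toImage (f : X ⟶ Y) [QuasiCompact f] :
    IsSchemeTheoreticallyDominant f.toImage := by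
  rw [isSchemeTheoreticallyDominant_iff]
  let U : Y.affineOpens → f.image.affineOpens := fun V =>
    ⟨f.imageι ⁻¹ᵁ V.1, V.2.preimage f.imageι⟩
  have hU : ⨆ V, (U V).1 = ⊤ := by
    have h1 : ⨆ V : Y.affineOpens, (V.1 : Y.Opens) = ⊤ := iSup_affineOpens_eq_top Y
    ext x
    simp only [Opens.coe_iSup, Set.mem_iUnion, SetLike.mem_coe, Opens.coe_top, Set.mem_univ,
      iff_true]
    have hx : f.imageι x ∈ (⊤ : Y.Opens) := trivial
    rw [← h1, Opens.mem_iSup] at hx
    obtain ⟨V, hV⟩ := hx
    exact ⟨V, hV⟩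
  refine Scheme.IdealSheafData.ext_of_iSup_eq_top U hU fun V => ?_
  rw [Scheme.Hom.ker_apply, Scheme.IdealSheafData.ideal_bot, Pi.bot_apply,
    ← RingHom.injective_iff_ker_eq_bot]
  exact f.toImage_app_injective V

/-- A closed immersion through which a scheme-theoretically dominant morphism factors is an
isomorphism. -/
theorem isIso_of_isClosedImmersion_of_dominant_fac {W P P' : Scheme.{u}} (d : W ⟶ P)
    [IsSchemeTheoreticallyDominant d] (c : P' ⟶ P) [IsClosedImmersion c] (t : W ⟶ P')
    (h : t ≫ c = d) : IsIso c := by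
  rw [IsClosedImmersion.isIso_iff_ker_eq_bot, ← le_bot_iff, ← d.ker_eq_bot, ← h]
  exact t.le_ker_comp c

/-- If a scheme-theoretically dominant morphism `d : W ⟶ P` followed by `ψ : P ⟶ H` factors through
a closed immersion `ι : Z ⟶ H`, then so does `ψ`. -/
theorem exists_fac_of_dominant {W P H Z : Scheme.{u}} (d : W ⟶ P)
    [IsSchemeTheoreticallyDominant d] (ψ : P ⟶ H) (ι : Z ⟶ H) [IsClosedImmersion ι] (g : W ⟶ Z)
    (h : d ≫ ψ = g ≫ ι) : ∃ m : P ⟶ Z, m ≫ ι = ψ ∧ d ≫ m = g := by
  let c := pullback.fst ψ ι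
  let t : W ⟶ pullback ψ ι := pullback.lift d g h
  have ht : t ≫ c = d := pullback.lift_fst _ _ _
  haveI : IsIso c := isIso_of_isClosedImmersion_of_dominant_fac d c t ht
  refine ⟨inv c ≫ pullback.snd ψ ι, ?_, ?_⟩
  · rw [Category.assoc, ← pullback.condition, IsIso.inv_hom_id_assoc]
  · have : d ≫ inv c = t := by rw [← ht, Category.assoc, IsIso.hom_inv_id, Category.comp_id]
    rw [← Category.assoc, this]
    exact pullback.lift_snd _ _ _

end Groth.Agent.Lib.Helper24.AntiAff
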