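import Mathlib
import Groth.Agent.Lib.Helper24.AntiAff.Image
import Groth.Agent.Lib.Helper24.Blanchard.Whisker

/-!
# The scheme-theoretic image of a homomorphism of group schemes over a field is a closed subgroup
-/

set_option autoImplicit false
universe u

open AlgebraicGeometry CategoryTheory Limits TopologicalSpace Opposite
open MonoidalCategory CartesianMonoidalCategory MonObj GrpObj

namespace Groth.Agent.Lib.Helper24.AntiAff

section transport

variable {𝒯 : Type*} [Category 𝒯] [CartesianMonoidalCategory 𝒯]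

/-- transport of a group structure along a monomorphism (after helper14's `grpObjOfMono`) -/
@[reducible] def grpObjOfMono {K M : 𝒯} [GrpObj M] (i : K ⟶ M) [Mono i]
    (o : 𝟙_ 𝒯 ⟶ K) (ho : o ≫ i = η) (m : K ⊗ K ⟶ K) (hm : m ≫ i = (i ⊗ₘ i) ≫ μ)
    (v : K ⟶ K) (hv : v ≫ i = i ≫ ι) : GrpObj K where
  one := o
  mul := m
  one_mul := by
    rw [← cancel_mono i, Category.assoc, hm, ← tensorHom_id, tensorHom_comp_tensorHom_assoc, ho,
      Category.id_comp, tensorHom_def'_assoc, MonObj.one_mul, leftUnitor_naturality]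
  mul_one := by
    rw [← cancel_mono i, Category.assoc, hm, ← id_tensorHom, tensorHom_comp_tensorHom_assoc, ho,
      Category.id_comp, tensorHom_def_assoc, MonObj.mul_one, rightUnitor_naturality]
  mul_assoc := by
    rw [← cancel_mono i]
    have hL : ((m ▷ K) ≫ m) ≫ i = ((i ⊗ₘ i) ⊗ₘ i) ≫ (μ ▷ M) ≫ μ := by
      rw [Category.assoc, hm, ← tensorHom_id, tensorHom_comp_tensorHom_assoc, hm,
        Category.id_comp, ← tensorHom_id, tensorHom_comp_tensorHom_assoc, Category.comp_id]
    have hR : ((α_ K K K).hom ≫ (K ◁ m) ≫ m) ≫ i =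
        ((i ⊗ₘ i) ⊗ₘ i) ≫ (α_ M M M).hom ≫ (M ◁ μ) ≫ μ := by
      rw [Category.assoc, Category.assoc, hm, ← id_tensorHom, tensorHom_comp_tensorHom_assoc, hm,
        Category.id_comp, associator_naturality_assoc, ← id_tensorHom,
        tensorHom_comp_tensorHom_assoc, Category.comp_id]
    rw [hL, hR, MonObj.mul_assoc]
  inv := v
  left_inv := by
    rw [← cancel_mono i, Category.assoc, hm, lift_map_assoc, hv, Category.id_comp,
      Category.assoc, ho]
    have : lift (i ≫ ι) i = i ≫ lift ι (𝟙 M) := by rw [comp_lift, Category.comp_id]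
    rw [this, Category.assoc, GrpObj.left_inv, comp_toUnit_assoc]
  right_inv := by
    rw [← cancel_mono i, Category.assoc, hm, lift_map_assoc, hv, Category.id_comp,
      Category.assoc, ho]
    have : lift i (i ≫ ι) = i ≫ lift (𝟙 M) ι := by rw [comp_lift, Category.comp_id]
    rw [this, Category.assoc, GrpObj.right_inv, comp_toUnit_assoc]

end transport

section field

open Groth.Agent.Lib.Helper24.Blanchard

variable {k : Type u} [Field k]

/-- Whiskering preserves quasi-compact scheme-theoretically dominant morphisms of `k`-schemes. -/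
theorem dominant_whiskerLeft (T : Over (Spec (CommRingCat.of k)))
    {X Y : Over (Spec (CommRingCat.of k))} (g : X ⟶ Y) [IsSchemeTheoreticallyDominant g.left]
    [QuasiCompact g.left] :
    IsSchemeTheoreticallyDominant (T ◁ g).left ∧ QuasiCompact (T ◁ g).left := by
  have H := isPullback_whiskerLeft T g
  haveI := flat_snd_left T (Y := Y)
  exact ⟨IsSchemeTheoreticallyDominant.of_isPullback H,
    MorphismProperty.of_isPullback (P := @QuasiCompact) H inferInstance⟩

theorem dominant_whiskerRight (T : Over (Spec (CommRingCat.of k)))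
    {X Y : Over (Spec (CommRingCat.of k))} (g : X ⟶ Y) [IsSchemeTheoreticallyDominant g.left]
    [QuasiCompact g.left] :
    IsSchemeTheoreticallyDominant (g ▷ T).left ∧ QuasiCompact (g ▷ T).left := by
  obtain ⟨h1, h2⟩ := dominant_whiskerLeft T g
  have e : g ▷ T = (β_ X T).hom ≫ (T ◁ g) ≫ (β_ T Y).hom := by
    rw [← BraidedCategory.braiding_naturality_left_assoc, SymmetricCategory.symmetry,
      Category.comp_id]
  haveI : IsIso (β_ X T).hom.left := (inferInstance : IsIso ((Over.forget _).map (β_ X T).hom))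
  haveI : IsIso (β_ T Y).hom.left := (inferInstance : IsIso ((Over.forget _).map (β_ T Y).hom))
  rw [e, Over.comp_left, Over.comp_left]
  exact ⟨inferInstance, inferInstance⟩

theorem dominant_tensorHom {X Y X' Y' : Over (Spec (CommRingCat.of k))} (g : X ⟶ Y) (g' : X' ⟶ Y')
    [IsSchemeTheoreticallyDominant g.left] [QuasiCompact g.left]
    [IsSchemeTheoreticallyDominant g'.left] [QuasiCompact g'.left] :
    IsSchemeTheoreticallyDominant (g ⊗ₘ g').left ∧ QuasiCompact (g ⊗ₘ g').left := by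
  obtain ⟨h1, h2⟩ := dominant_whiskerRight X' g
  obtain ⟨h3, h4⟩ := dominant_whiskerLeft Y g'
  rw [MonoidalCategory.tensorHom_def, Over.comp_left]
  exact ⟨inferInstance, inferInstance⟩

/-- **The image of a homomorphism.** A quasi-compact homomorphism of `k`-group schemes factors as
a scheme-theoretically dominant homomorphism followed by a closed immersion of group schemes. -/
theorem exists_image_subgroup (G H : Over (Spec (CommRingCat.of k))) [GrpObj G] [GrpObj H]
    (f : G ⟶ H) [IsMonHom f] [QuasiCompact f.left] :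
    ∃ (M₁ : Over (Spec (CommRingCat.of k))) (_ : GrpObj M₁) (j₁ : M₁ ⟶ H) (f₁ : G ⟶ M₁),
      IsMonHom j₁ ∧ IsClosedImmersion j₁.left ∧ f₁ ≫ j₁ = f ∧
      IsSchemeTheoreticallyDominant f₁.left ∧ QuasiCompact f₁.left := by
  let ιZ := f.left.imageι
  let M₁ : Over (Spec (CommRingCat.of k)) := Over.mk (ιZ ≫ H.hom)
  let j₁ : M₁ ⟶ H := Over.homMk ιZ rfl
  let f₁ : G ⟶ M₁ := Over.homMk f.left.toImage (by
    change f.left.toImage ≫ ιZ ≫ H.hom = G.hom
    rw [Scheme.Hom.toImage_imageι_assoc]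
    exact Over.w f)
  have hfac : f₁ ≫ j₁ = f := by
    apply Over.OverMorphism.ext
    exact f.left.toImage_imageι
  haveI hdom : IsSchemeTheoreticallyDominant f₁.left :=
    isSchemeTheoreticallyDominant_toImage f.left
  haveI hqc : QuasiCompact f₁.left := (inferInstance : QuasiCompact f.left.toImage)
  haveI hci : IsClosedImmersion j₁.left := (inferInstance : IsClosedImmersion ιZ)
  haveI : Mono j₁.left := inferInstance
  haveI : Mono j₁ := Over.mono_of_mono_left j₁
  -- the unit
  let o : 𝟙_ (Over (Spec (CommRingCat.of k))) ⟶ M₁ := η[G] ≫ f₁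
  have ho : o ≫ j₁ = η[H] := by
    rw [Category.assoc, hfac, IsMonHom.one_hom]
  -- the multiplication
  obtain ⟨hd2, hq2⟩ := dominant_tensorHom f₁ f₁
  obtain ⟨m₀, hm₀, -⟩ := exists_fac_of_dominant (f₁ ⊗ₘ f₁).left ((j₁ ⊗ₘ j₁) ≫ μ[H]).left ιZ
    (μ[G] ≫ f₁).left (by
      have : (f₁ ⊗ₘ f₁) ≫ (j₁ ⊗ₘ j₁) ≫ μ[H] = (μ[G] ≫ f₁) ≫ j₁ := by
        rw [tensorHom_comp_tensorHom_assoc, hfac, Category.assoc, hfac, IsMonHom.mul_hom]
      exact congrArg (fun ψ => ψ.left) this)
  let m : M₁ ⊗ M₁ ⟶ M₁ := Over.homMk m₀ (by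
    change m₀ ≫ ιZ ≫ H.hom = (M₁ ⊗ M₁).hom
    rw [← Category.assoc, hm₀]
    exact Over.w ((j₁ ⊗ₘ j₁) ≫ μ[H]))
  have hm : m ≫ j₁ = (j₁ ⊗ₘ j₁) ≫ μ[H] := by
    apply Over.OverMorphism.ext
    exact hm₀
  -- the inverse
  obtain ⟨v₀, hv₀, -⟩ := exists_fac_of_dominant f₁.left (j₁ ≫ ι[H]).left ιZ (ι[G] ≫ f₁).left (by
      have : f₁ ≫ j₁ ≫ ι[H] = (ι[G] ≫ f₁) ≫ j₁ := by
        rw [← Category.assoc, hfac, Category.assoc, hfac, GrpObj.inv_hom]
      exact congrArg (fun ψ => ψ.left) this)
  let v : M₁ ⟶ M₁ := Over.homMk v₀ (by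
    change v₀ ≫ ιZ ≫ H.hom = M₁.hom
    rw [← Category.assoc, hv₀]
    exact Over.w (j₁ ≫ ι[H]))
  have hv : v ≫ j₁ = j₁ ≫ ι[H] := by
    apply Over.OverMorphism.ext
    exact hv₀
  letI inst : GrpObj M₁ := grpObjOfMono j₁ o ho m hm v hv
  refine ⟨M₁, inst, j₁, f₁, ⟨ho, hm⟩, hci, hfac, hdom, hqc⟩

end field

end Groth.Agent.Lib.Helper24.AntiAff
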