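import Mathlib
import Groth.Agent.Lib.Helper4.AntiAffRigid

/-!
# Rigidity for anti-affine schemes in `Over (Spec k)`: pointed version
-/

set_option autoImplicit false
universe u

open AlgebraicGeometry CategoryTheory Limits TopologicalSpace Opposite
open MonoidalCategory CartesianMonoidalCategory MonObj GrpObj

namespace Groth.Agent.Lib.Helper24.AntiAff

variable {k : Type u} [Field k]

theorem exists_of_isPullback {P X Y Z : Scheme.{u}} {fst : P ⟶ X} {snd : P ⟶ Y} {f : X ⟶ Z}
    {g : Y ⟶ Z} (H : IsPullback fst snd f g) (x : X) (y : Y) (h : f x = g y) :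
    ∃ z : P, fst z = x ∧ snd z = y := by
  obtain ⟨w, hw1, hw2⟩ := Scheme.Pullback.exists_preimage_pullback x y h
  refine ⟨H.isoPullback.inv w, ?_, ?_⟩
  · rw [← Scheme.Hom.comp_apply, H.isoPullback_inv_fst]; exact hw1
  · rw [← Scheme.Hom.comp_apply, H.isoPullback_inv_snd]; exact hw2

/-- A morphism `X × Y ⟶ Z` with `X` anti-affine, `Y` connected and `Z` separated, which is constant
on `X × {y₀}` and on `{x₀} × Y`, is constant. -/
theorem const_of_antiAffine (X Y Z : Over (Spec (CommRingCat.of k))) [CompactSpace ↥X.left]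
    [QuasiSeparatedSpace ↥X.left] (hX : IsIso X.hom.appTop) [IsLocallyNoetherian Y.left]
    [PreconnectedSpace ↥Y.left] [IsSeparated Z.hom]
    (x₀ : 𝟙_ (Over (Spec (CommRingCat.of k))) ⟶ X) (y₀ : 𝟙_ (Over (Spec (CommRingCat.of k))) ⟶ Y)
    (z₀ : 𝟙_ (Over (Spec (CommRingCat.of k))) ⟶ Z) (φ : X ⊗ Y ⟶ Z)
    (h1 : lift (𝟙 X) (toUnit X ≫ y₀) ≫ φ = toUnit X ≫ z₀)
    (h2 : lift (toUnit Y ≫ x₀) (𝟙 Y) ≫ φ = toUnit Y ≫ z₀) :
    φ = toUnit (X ⊗ Y) ≫ z₀ := by
  haveI : Subsingleton ↥(Spec (CommRingCat.of k)) := inferInstanceAs (Subsingleton (PrimeSpectrum k))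
  haveI : Subsingleton ↥(𝟙_ (Over (Spec (CommRingCat.of k)))).left :=
    inferInstanceAs (Subsingleton (PrimeSpectrum k))
  let τ : X ⟶ X ⊗ Y := lift (𝟙 X) (toUnit X ≫ y₀)
  let σ : Y ⟶ X ⊗ Y := lift (toUnit Y ≫ x₀) (𝟙 Y)
  have hσ : σ.left ≫ pullback.snd X.hom Y.hom = 𝟙 Y.left := by
    have : σ ≫ snd X Y = 𝟙 Y := lift_snd _ _
    have := congrArg (fun ψ => ψ.left) this
    simp only [Over.comp_left, Over.id_left] at this
    exact this
  have hf : φ.left ≫ Z.hom = pullback.snd X.hom Y.hom ≫ Y.hom :=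
    (Over.w φ).trans (Over.w (snd X Y)).symm
  -- the fibre of the second projection over `y₀`
  have H₀ : IsPullback (fst X Y).left (snd X Y).left X.hom Y.hom :=
    IsPullback.of_hasPullback X.hom Y.hom
  have hτ₁ : τ.left ≫ (fst X Y).left = 𝟙 X.left := by
    have : τ ≫ fst X Y = 𝟙 X := lift_fst _ _
    have := congrArg (fun ψ => ψ.left) this
    simp only [Over.comp_left, Over.id_left] at this
    exact this
  have hτ₂ : τ.left ≫ (snd X Y).left = X.hom ≫ y₀.left := by
    have : τ ≫ snd X Y = toUnit X ≫ y₀ := lift_snd _ _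
    have := congrArg (fun ψ => ψ.left) this
    simp only [Over.comp_left, Over.toUnit_left] at this
    exact this
  have hy₀ : y₀.left ≫ Y.hom = 𝟙 (Spec (CommRingCat.of k)) := Over.w y₀
  have H₁ : IsPullback τ.left X.hom (snd X Y).left y₀.left := by
    refine IsPullback.of_right ?_ hτ₂ H₀
    rw [hτ₁, hy₀]
    exact IsPullback.of_horiz_isIso ⟨by simp⟩
  have hτφ : τ.left ≫ φ.left = X.hom ≫ z₀.left := by
    have := congrArg (fun ψ => ψ.left) h1
    simp only [Over.comp_left, Over.toUnit_left] at this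
    exact this
  have hσφ : σ.left ≫ φ.left = Y.hom ≫ z₀.left := by
    have := congrArg (fun ψ => ψ.left) h2
    simp only [Over.comp_left, Over.toUnit_left] at this
    exact this
  have key := Groth.Agent.Lib.Helper4.AntiAffRigid.rigidity X.hom Y.hom Z.hom hX φ.left hf σ.left hσ
    (y₀.left (IsLocalRing.closedPoint k)) (by
      intro x hx
      obtain ⟨a, ha1, ha2⟩ := exists_of_isPullback H₁ x (IsLocalRing.closedPoint k) hx
      have e1 : φ.left x = z₀.left (X.hom a) := by
        rw [← ha1, ← Scheme.Hom.comp_apply, hτφ]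
        rfl
      have e2 : φ.left (σ.left (y₀.left (IsLocalRing.closedPoint k))) =
          z₀.left (Y.hom (y₀.left (IsLocalRing.closedPoint k))) := by
        rw [← Scheme.Hom.comp_apply, hσφ]
        rfl
      rw [e1, e2]
      congr 1
      exact Subsingleton.elim _ _)
  apply Over.OverMorphism.ext
  rw [key]
  simp only [Over.comp_left, Over.toUnit_left]
  rw [hσφ, ← Category.assoc]
  congr 1
  exact (Over.w (snd X Y))

end Groth.Agent.Lib.Helper24.AntiAff
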