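import Mathlib
import Groth.Agent.Lib.Helper24.AntiAff.Const
import Groth.Agent.Lib.Helper4.GrpFieldSep

/-!
# Anti-affine groups map into the centre of connected group schemes
-/

set_option autoImplicit false
universe u

open AlgebraicGeometry CategoryTheory Limits TopologicalSpace Opposite
open MonoidalCategory CartesianMonoidalCategory MonObj GrpObj

namespace Groth.Agent.Lib.Helper24.AntiAff

variable {k : Type u} [Field k]

/-- The image of an anti-affine group scheme under a homomorphism to a connected group scheme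
(locally Noetherian) is central. -/
theorem comm_of_antiAffine (A G : Over (Spec (CommRingCat.of k))) [GrpObj A] [GrpObj G]
    [CompactSpace ↥A.left] [QuasiSeparatedSpace ↥A.left] (hA : IsIso A.hom.appTop)
    [IsLocallyNoetherian G.left] [PreconnectedSpace ↥G.left]
    (j : A ⟶ G) [IsMonHom j] {T : Over (Spec (CommRingCat.of k))} (a : T ⟶ A) (g : T ⟶ G) :
    (a ≫ j) * g = g * (a ≫ j) := by
  haveI : IsSeparated G.hom := Groth.Agent.Lib.Helper4.GrpFieldSep.isSeparated_of_field k G
  let c : A ⊗ G ⟶ G := (fst A G ≫ j) * snd A G * (fst A G ≫ j)⁻¹ * (snd A G)⁻¹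
  have h1 : lift (𝟙 A) (toUnit A ≫ η[G]) ≫ c = toUnit A ≫ η[G] := by
    simp only [c, MonObj.comp_mul, GrpObj.comp_inv, lift_fst_assoc, lift_snd, Category.id_comp]
    rw [← Hom.one_def]
    group
  have h2 : lift (toUnit G ≫ η[A]) (𝟙 G) ≫ c = toUnit G ≫ η[G] := by
    simp only [c, MonObj.comp_mul, GrpObj.comp_inv, lift_fst_assoc, lift_snd, Category.assoc]
    rw [IsMonHom.one_hom, ← Hom.one_def]
    group
  have hc : c = toUnit (A ⊗ G) ≫ η[G] :=
    const_of_antiAffine A G G hA η[A] η[G] η[G] c h1 h2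
  have h3 : lift a g ≫ c = 1 := by
    rw [hc, ← Category.assoc, Hom.one_def]
    congr 1
    exact toUnit_unique _ _
  simp only [c, MonObj.comp_mul, GrpObj.comp_inv, lift_fst_assoc, lift_snd] at h3
  have h4 : (a ≫ j) * g * (a ≫ j)⁻¹ * g⁻¹ = 1 := h3
  calc (a ≫ j) * g = ((a ≫ j) * g * (a ≫ j)⁻¹ * g⁻¹) * (g * (a ≫ j)) := by group
    _ = g * (a ≫ j) := by rw [h4, _root_.one_mul]

end Groth.Agent.Lib.Helper24.AntiAff
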