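import Mathlib
import Groth.Prelude.Def_AlgGrp
import Groth.Prelude.Def_SGA7IX
import Groth.Agent.Lib.Helper24.AntiAff.Central
import Groth.Agent.Lib.Helper24.AutRigid.Main

/-!
# `A × N ⟶ G` is an isogeny when `A · N = G` (`A` an abelian subvariety, `N` affine normal)
-/

set_option autoImplicit false
universe u

open AlgebraicGeometry CategoryTheory Limits TopologicalSpace Opposite
open MonoidalCategory CartesianMonoidalCategory MonObj GrpObj

namespace Groth.Agent.Lib.Helper24.AntiAff

section general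

variable {C : Type*} [Category C] [CartesianMonoidalCategory C] [BraidedCategory C]

/-- A morphism of monoid objects which is multiplicative on `T`-points is a homomorphism. -/
theorem isMonHom_of_forall {X Y : C} [MonObj X] [MonObj Y] (f : X ⟶ Y) (h1 : η[X] ≫ f = η[Y])
    (hmul : ∀ (T : C) (a b : T ⟶ X), (a * b) ≫ f = (a ≫ f) * (b ≫ f)) : IsMonHom f where
  one_hom := h1
  mul_hom := by
    have := hmul (X ⊗ X) (fst X X) (snd X X)
    rw [← MonObj.mul_eq_mul, Hom.mul_def, lift_fst_comp_snd_comp] at this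
    exact this

variable {G N A : C} [GrpObj G] [GrpObj N] [GrpObj A] (i : N ⟶ G) [IsMonHom i]
  (j : A ⟶ G) [IsMonHom j]

lemma mulMap_eq : (j ⊗ₘ i) ≫ μ[G] = (fst A N ≫ j) * (snd A N ≫ i) := by
  rw [Hom.mul_def, lift_fst_comp_snd_comp]

/-- If `A` commutes with `N` in `G`, then the multiplication `A × N ⟶ G` is a homomorphism. -/
theorem isMonHom_mulMap
    (hcomm : ∀ (T : C) (a : T ⟶ A) (n : T ⟶ N), (a ≫ j) * (n ≫ i) = (n ≫ i) * (a ≫ j)) :
    IsMonHom ((j ⊗ₘ i) ≫ μ[G]) := by
  apply isMonHom_of_forall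
  · rw [mulMap_eq, MonObj.comp_mul, ← Category.assoc, ← Category.assoc,
      IsMonHom.one_hom (f := fst A N), IsMonHom.one_hom (f := snd A N), IsMonHom.one_hom,
      IsMonHom.one_hom, MonObj.one_eq_one, _root_.mul_one]
  · intro T x y
    rw [mulMap_eq, MonObj.comp_mul, MonObj.comp_mul, MonObj.comp_mul]
    simp only [← Category.assoc]
    rw [MonObj.mul_comp x y (fst A N), MonObj.mul_comp x y (snd A N), MonObj.mul_comp,
      MonObj.mul_comp]
    have h := hcomm T (y ≫ fst A N) (x ≫ snd A N)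
    exact Commute.mul_mul_mul_comm h _ _

/-- The kernel of the multiplication `A × N ⟶ G` is the fibre product of `A` and `N` over `G`
(through `n ↦ n⁻¹`). -/
theorem isPullback_of_isKernel_mulMap {K : C} (κ : K ⟶ A ⊗ N)
    (hκ : IsPullback κ (toUnit K) ((j ⊗ₘ i) ≫ μ[G]) η[G]) :
    IsPullback (κ ≫ fst A N) (κ ≫ snd A N) j (i ≫ ι[G]) := by
  have hw : (κ ≫ fst A N) ≫ j = (κ ≫ snd A N) ≫ i ≫ ι[G] := by
    have h1 := hκ.w
    rw [mulMap_eq, MonObj.comp_mul, ← Hom.one_def] at h1
    have h2 : (κ ≫ fst A N ≫ j) = (κ ≫ snd A N ≫ i)⁻¹ := eq_inv_of_mul_eq_one_left h1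
    rw [Category.assoc, h2, Hom.inv_def]
    simp only [Category.assoc]
  refine ⟨⟨hw⟩, ⟨PullbackCone.IsLimit.mk _ (fun s => hκ.lift (lift s.fst s.snd) (toUnit _) ?_)
    (fun s => ?_) (fun s => ?_) (fun s m h1 h2 => ?_)⟩⟩
  · rw [mulMap_eq, MonObj.comp_mul, ← Category.assoc, ← Category.assoc, lift_fst, lift_snd,
      ← Hom.one_def]
    have h3 : s.fst ≫ j = (s.snd ≫ i)⁻¹ := by
      rw [Hom.inv_def, Category.assoc]; exact s.condition
    rw [h3, inv_mul_cancel]
  · rw [← Category.assoc, hκ.lift_fst, lift_fst]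
  · rw [← Category.assoc, hκ.lift_fst, lift_snd]
  · apply hκ.hom_ext
    · rw [hκ.lift_fst]
      apply CartesianMonoidalCategory.hom_ext
      · rw [Category.assoc, h1, lift_fst]
      · rw [Category.assoc, h2, lift_snd]
    · exact toUnit_unique _ _

/-- The kernel of `A ⟶ G ⟶ Q` is the fibre product of `A` and `N = ker (G ⟶ Q)` over `G`. -/
theorem exists_isPullback_of_isKernel_comp {K Q : C} [GrpObj Q] (π : G ⟶ Q)
    (hker : IsPullback i (toUnit N) π η[Q]) (κ : K ⟶ A)
    (hκ : IsPullback κ (toUnit K) (j ≫ π) η[Q]) :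
    ∃ r : K ⟶ N, IsPullback κ r j i := by
  have hi : Mono i := ⟨fun a b hab => hker.hom_ext hab (toUnit_unique _ _)⟩
  have hκm : Mono κ := ⟨fun a b hab => hκ.hom_ext hab (toUnit_unique _ _)⟩
  let r : K ⟶ N := hker.lift (κ ≫ j) (toUnit K) (by rw [Category.assoc]; exact hκ.w)
  have hr : r ≫ i = κ ≫ j := hker.lift_fst _ _ _
  refine ⟨r, ⟨⟨hr.symm⟩, ⟨PullbackCone.IsLimit.mk _
    (fun s => hκ.lift s.fst (toUnit _) ?_) (fun s => ?_) (fun s => ?_) (fun s m h1 h2 => ?_)⟩⟩⟩
  · rw [← Category.assoc, s.condition, Category.assoc, hker.w, ← Category.assoc]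
    congr 1
    exact toUnit_unique _ _
  · exact hκ.lift_fst _ _ _
  · rw [← cancel_mono i, Category.assoc, hr, ← Category.assoc, hκ.lift_fst]
    exact s.condition
  · rw [← cancel_mono κ, h1, hκ.lift_fst]

end general

section field

variable {k : Type u} [Field k]

/-- A `k`-scheme which is closed in a proper `k`-scheme and closed in an affine `k`-scheme is
finite over `k`. -/
theorem isFinite_of_closedImmersions (K A N : Over (Spec (CommRingCat.of k))) (p : K ⟶ A)
    (r : K ⟶ N) [IsClosedImmersion p.left] [IsClosedImmersion r.left] [IsProper A.hom]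
    [IsAffine N.left] : IsFinite K.hom := by
  rw [IsFinite.iff_isProper_and_isAffineHom]
  constructor
  · rw [← Over.w p]
    infer_instance
  · haveI : IsAffine K.left := isAffine_of_isAffineHom r.left
    infer_instance

theorem left_isPullback {S : Scheme.{u}} {P X Y Z : Over S} {a : P ⟶ X} {b : P ⟶ Y} {f : X ⟶ Z}
    {g : Y ⟶ Z} (H : IsPullback a b f g) : IsPullback a.left b.left f.left g.left :=
  H.map (Over.forget S)

variable [IsAlgClosed k]

theorem main14751
    (G N A Q : Over (Spec (CommRingCat.of k))) [GrpObj G] [GrpObj N] [GrpObj A] [GrpObj Q]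
    [Smooth G.hom] [QuasiCompact G.hom] [ConnectedSpace ↥G.left]
    (i : N ⟶ G) [IsMonHom i] [IsClosedImmersion i.left] [IsAffine N.left]
    (π : G ⟶ Q) [IsMonHom π] [Flat π.left] [Surjective π.left] (hker : AlgGrp.IsKernel i π)
    (j : A ⟶ G) [IsMonHom j] [IsClosedImmersion j.left] [Smooth A.hom] [ConnectedSpace ↥A.left]
    [IsProper A.hom]
    (hsurj : Surjective ((j ⊗ₘ i) ≫ μ[G]).left) :
    IsMonHom ((j ⊗ₘ i) ≫ μ[G]) ∧ SGA7.IsIsogenyOver ((j ⊗ₘ i) ≫ μ[G]) ∧
      SGA7.IsIsogenyOver (j ≫ π) := by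
  -- `A` is central in `G`
  haveI : IsReduced A.left :=
    Groth.Agent.Lib.Helper27.SchemeField.isReduced_of_smooth_to_field A.hom
  have hA : IsIso A.hom.appTop := Groth.Agent.Lib.Helper24.AutRigid.isIso_appTop_of_proper A.hom
  haveI : CompactSpace ↥A.left := (quasiCompact_iff_compactSpace A.hom).mp inferInstance
  haveI : A.left.IsSeparated := ⟨by rw [← terminal.comp_from A.hom]; infer_instance⟩
  haveI : QuasiSeparatedSpace ↥A.left := inferInstance
  haveI : IsLocallyNoetherian G.left := LocallyOfFiniteType.isLocallyNoetherian G.hom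
  have hcomm : ∀ (T : Over (Spec (CommRingCat.of k))) (a : T ⟶ A) (n : T ⟶ N),
      (a ≫ j) * (n ≫ i) = (n ≫ i) * (a ≫ j) := fun T a n =>
    comm_of_antiAffine A G hA j a (n ≫ i)
  have hmon : IsMonHom ((j ⊗ₘ i) ≫ μ[G]) := isMonHom_mulMap i j hcomm
  -- closed immersions
  haveI : IsClosedImmersion (i ≫ ι[G]).left := by
    rw [Over.comp_left]
    haveI : IsIso ι[G].left := (inferInstance : IsIso ((Over.forget _).map ι[G]))
    infer_instance
  refine ⟨hmon, ⟨hsurj, ?_⟩, ⟨?_, ?_⟩⟩
  · intro K κ hκ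
    have H := left_isPullback (isPullback_of_isKernel_mulMap i j κ hκ)
    haveI : IsClosedImmersion (κ ≫ fst A N).left :=
      MorphismProperty.of_isPullback (P := @IsClosedImmersion) H.flip inferInstance
    haveI : IsClosedImmersion (κ ≫ snd A N).left :=
      MorphismProperty.of_isPullback (P := @IsClosedImmersion) H inferInstance
    exact isFinite_of_closedImmersions K A N (κ ≫ fst A N) (κ ≫ snd A N)
  · -- surjectivity of `A ⟶ Q`
    have hπm : ((j ⊗ₘ i) ≫ μ[G]) ≫ π = fst A N ≫ j ≫ π := by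
      have hiπ : snd A N ≫ i ≫ π = 1 := by
        rw [hker.w, ← Category.assoc, Hom.one_def]
        congr 1
        exact toUnit_unique _ _
      rw [mulMap_eq, MonObj.mul_comp, Category.assoc, Category.assoc, hiπ, _root_.mul_one]
    constructor
    intro q
    obtain ⟨g, rfl⟩ := π.left.surjective q
    obtain ⟨x, rfl⟩ := hsurj.surj g
    refine ⟨(fst A N).left x, ?_⟩
    have := congrArg (fun ψ => ψ.left x) hπm
    simp only [Over.comp_left, Scheme.Hom.comp_apply] at this ⊢
    exact this.symm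
  · intro K κ hκ
    obtain ⟨r, Hr⟩ := exists_isPullback_of_isKernel_comp i j π hker κ hκ
    have H := left_isPullback Hr
    haveI : IsClosedImmersion κ.left :=
      MorphismProperty.of_isPullback (P := @IsClosedImmersion) H.flip inferInstance
    haveI : IsClosedImmersion r.left :=
      MorphismProperty.of_isPullback (P := @IsClosedImmersion) H inferInstance
    exact isFinite_of_closedImmersions K A N κ r

end field

end Groth.Agent.Lib.Helper24.AntiAff
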