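import Mathlib
import Groth.Agent.Lib.Helper24.AntiAff.ImageGroup
import Groth.Agent.Lib.Helper24.AntiAff.Central
import Groth.Agent.Lib.Helper24.AntiAff.Main14751
import Groth.Agent.Lib.Helper4.ConnIdem

/-!
# Pointed morphisms from anti-affine groups are homomorphisms and land in the anti-affine part
-/

set_option autoImplicit false
universe u

open AlgebraicGeometry CategoryTheory Limits TopologicalSpace Opposite
open MonoidalCategory CartesianMonoidalCategory MonObj GrpObj

namespace Groth.Agent.Lib.Helper24.AntiAff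

variable {k : Type u} [Field k]

/-- A scheme whose global functions form a field is preconnected. -/
theorem preconnectedSpace_of_bijective (X : Scheme.{u}) (ρ : k →+* Γ(X, ⊤))
    (hρ : Function.Bijective ρ) : PreconnectedSpace X := by
  apply Groth.Agent.Lib.Helper4.ConnIdem.preconnectedSpace_of_noIdem
  intro e he
  obtain ⟨c, rfl⟩ := hρ.2 e
  have : c * c = c := hρ.1 (by rw [map_mul]; exact he)
  have hc : c = 0 ∨ c = 1 := by
    have h : c * (c - 1) = 0 := by rw [mul_sub, this, _root_.mul_one, sub_self]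
    rcases mul_eq_zero.mp h with h | h
    · exact Or.inl h
    · exact Or.inr (sub_eq_zero.mp h)
  rcases hc with rfl | rfl
  · left; exact map_zero ρ
  · right; exact map_one ρ

/-- **Rigidity for anti-affine groups**: a pointed morphism from an anti-affine group scheme to a
group scheme is a homomorphism. -/
theorem isMonHom_of_antiAffine (G H : Over (Spec (CommRingCat.of k))) [GrpObj G] [GrpObj H]
    [CompactSpace ↥G.left] [QuasiSeparatedSpace ↥G.left] (hG : IsIso G.hom.appTop)
    [IsLocallyNoetherian G.left] [PreconnectedSpace ↥G.left]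
    (f : G ⟶ H) (hf : η[G] ≫ f = η[H]) : IsMonHom f := by
  haveI : IsSeparated H.hom := Groth.Agent.Lib.Helper4.GrpFieldSep.isSeparated_of_field k H
  let φ : G ⊗ G ⟶ H := (μ[G] ≫ f) * (snd G G ≫ f)⁻¹ * (fst G G ≫ f)⁻¹
  have hη1 : (toUnit G ≫ η[G]) ≫ f = 1 := by
    rw [Category.assoc, hf, ← Hom.one_def]
  have h1 : lift (𝟙 G) (toUnit G ≫ η[G]) ≫ φ = toUnit G ≫ η[H] := by
    simp only [φ, MonObj.comp_mul, GrpObj.comp_inv, lift_fst_assoc, lift_snd_assoc,
      Category.id_comp]
    rw [hη1, ← Category.assoc, lift_comp_one_right, ← Hom.one_def, Category.id_comp]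
    group
  have h2 : lift (toUnit G ≫ η[G]) (𝟙 G) ≫ φ = toUnit G ≫ η[H] := by
    simp only [φ, MonObj.comp_mul, GrpObj.comp_inv, lift_fst_assoc, lift_snd_assoc,
      Category.id_comp]
    rw [hη1, ← Category.assoc, lift_comp_one_left, ← Hom.one_def, Category.id_comp]
    group
  have hφ : φ = toUnit (G ⊗ G) ≫ η[H] :=
    const_of_antiAffine G G H hG η[G] η[G] η[H] φ h1 h2
  apply isMonHom_of_forall f hf
  intro T a b
  have h3 : lift a b ≫ φ = 1 := by
    rw [hφ, ← Category.assoc, Hom.one_def]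
    congr 1
    exact toUnit_unique _ _
  simp only [φ, MonObj.comp_mul, GrpObj.comp_inv, lift_fst_assoc, lift_snd_assoc] at h3
  rw [← Category.assoc, ← Hom.mul_def] at h3
  have h4 : ((a * b) ≫ f) * (b ≫ f)⁻¹ * (a ≫ f)⁻¹ = 1 := h3
  calc (a * b) ≫ f = (((a * b) ≫ f) * (b ≫ f)⁻¹ * (a ≫ f)⁻¹) * ((a ≫ f) * (b ≫ f)) := by group
    _ = (a ≫ f) * (b ≫ f) := by rw [h4, _root_.one_mul]

theorem main19703
    (G H : Over (Spec (CommRingCat.of k))) [GrpObj G] [Smooth G.hom] [QuasiCompact G.hom]
    (hG : Function.Bijective ((Scheme.ΓSpecIso (CommRingCat.of k)).inv ≫ G.hom.appTop).hom)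
    [GrpObj H] [LocallyOfFiniteType H.hom] [QuasiCompact H.hom]
    (M : Over (Spec (CommRingCat.of k))) [GrpObj M] (j : M ⟶ H)
    (hMmax : ∀ (M₁ : Over (Spec (CommRingCat.of k))) [GrpObj M₁] [LocallyOfFiniteType M₁.hom]
      [QuasiCompact M₁.hom] (j₁ : M₁ ⟶ H) [IsMonHom j₁] [IsClosedImmersion j₁.left],
      Function.Bijective ((Scheme.ΓSpecIso (CommRingCat.of k)).inv ≫ M₁.hom.appTop).hom →
        ∃ g : M₁ ⟶ M, g ≫ j = j₁)
    (f : G ⟶ H) (hf : η[G] ≫ f = η[H]) :
    ∃ g : G ⟶ M, g ≫ j = f := by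
  -- `G` is anti-affine
  have hG' : IsIso G.hom.appTop := by
    haveI : IsIso ((Scheme.ΓSpecIso (CommRingCat.of k)).inv ≫ G.hom.appTop) := by
      rw [ConcreteCategory.isIso_iff_bijective]
      exact hG
    have : G.hom.appTop = (Scheme.ΓSpecIso (CommRingCat.of k)).hom ≫
        ((Scheme.ΓSpecIso (CommRingCat.of k)).inv ≫ G.hom.appTop) := by
      rw [Iso.hom_inv_id_assoc]
    rw [this]
    infer_instance
  haveI : CompactSpace ↥G.left := (quasiCompact_iff_compactSpace G.hom).mp inferInstance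
  haveI : IsSeparated G.hom := Groth.Agent.Lib.Helper4.GrpFieldSep.isSeparated_of_field k G
  haveI : G.left.IsSeparated := ⟨by rw [← terminal.comp_from G.hom]; infer_instance⟩
  haveI : QuasiSeparatedSpace ↥G.left := inferInstance
  haveI : IsLocallyNoetherian G.left := LocallyOfFiniteType.isLocallyNoetherian G.hom
  haveI : PreconnectedSpace ↥G.left := preconnectedSpace_of_bijective G.left _ hG
  haveI : IsMonHom f := isMonHom_of_antiAffine G H hG' f hf
  -- the image of `f`
  haveI : IsSeparated H.hom := Groth.Agent.Lib.Helper4.GrpFieldSep.isSeparated_of_field k H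
  haveI : QuasiCompact (f.left ≫ H.hom) := by rw [Over.w f]; infer_instance
  haveI : QuasiCompact f.left := QuasiCompact.of_comp f.left H.hom
  obtain ⟨M₁, inst, j₁, f₁, hj₁, hci, hfac, hdom, hqc⟩ := exists_image_subgroup G H f
  letI := inst
  haveI := hj₁
  haveI := hci
  haveI := hdom
  haveI := hqc
  haveI : LocallyOfFiniteType M₁.hom := by
    rw [← Over.w j₁]; infer_instance
  haveI : QuasiCompact M₁.hom := by
    rw [← Over.w j₁]; infer_instance
  -- `M₁` is anti-affine
  have hM₁ : Function.Bijective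
      ((Scheme.ΓSpecIso (CommRingCat.of k)).inv ≫ M₁.hom.appTop).hom := by
    have hinj : Function.Injective f₁.left.appTop.hom := f₁.left.app_injective ⊤
    have hcomp : ((Scheme.ΓSpecIso (CommRingCat.of k)).inv ≫ M₁.hom.appTop) ≫ f₁.left.appTop =
        (Scheme.ΓSpecIso (CommRingCat.of k)).inv ≫ G.hom.appTop := by
      rw [Category.assoc, ← Scheme.Hom.comp_appTop, Over.w f₁]
    have hcomp' : ∀ c, f₁.left.appTop.hom
        (((Scheme.ΓSpecIso (CommRingCat.of k)).inv ≫ M₁.hom.appTop).hom c) =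
          ((Scheme.ΓSpecIso (CommRingCat.of k)).inv ≫ G.hom.appTop).hom c := by
      intro c
      rw [← hcomp]
      rfl
    constructor
    · intro c c' hcc'
      apply hG.1
      rw [← hcomp', ← hcomp', hcc']
    · intro s
      obtain ⟨c, hc⟩ := hG.2 (f₁.left.appTop.hom s)
      refine ⟨c, hinj ?_⟩
      rw [hcomp', hc]
  obtain ⟨g₁, hg₁⟩ := hMmax M₁ j₁ hM₁
  exact ⟨f₁ ≫ g₁, by rw [Category.assoc, hg₁, hfac]⟩

end Groth.Agent.Lib.Helper24.AntiAff
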